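import Cfsg.Agent.Helper17.Fi24Sp.Cover
import Cfsg.Agent.S1691
import Cfsg.Agent.Helper19.Fi24Ord.Perm

/-! The centralizer of the transposition `l` in the presented `Fi₂₄` is `H24 = ⟨a, …, j, l⟩`;
the conjugate of `l` under the second double coset representative. -/

set_option autoImplicit false
set_option linter.all false

noncomputable section

namespace Cfsg.Agent.Helper17.Fi24He

open Cfsg.Spor Cfsg.Agent.Helper17.Fi24Sp

theorem hidx : H24.index = 306936 := Cfsg.Agent.Helper19.Fi24Ord.index_Hs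

theorem hcomm : D24.index = 2 := Cfsg.Agent.S1691.result

theorem H24_le_cent : H24 ≤ Subgroup.centralizer ({lG} : Set G24) := by
  rw [H24_eq_sup, sup_le_iff]
  refine ⟨range_le_cent, ?_⟩
  rw [Subgroup.zpowers_le, Subgroup.mem_centralizer_iff]
  intro y hy
  rw [Set.mem_singleton_iff] at hy
  rw [hy]

theorem cube_of_comm {Γ : Type*} [Group Γ] {x y : Γ} (hx : x * x = 1) (hy : y * y = 1)
    (h3 : (x * y) ^ 3 = 1) (hc : x * y = y * x) : x = y := by
  have e : (x * y) ^ 3 = x * y := by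
    have h2 : (x * y) ^ 2 = 1 := by
      rw [pow_two]
      calc x * y * (x * y) = x * (y * x) * y := by group
        _ = x * (x * y) * y := by rw [hc]
        _ = (x * x) * (y * y) := by group
        _ = 1 := by rw [hx, hy, one_mul]
    rw [pow_succ, h2, one_mul]
  rw [e] at h3
  have : x = y⁻¹ := eq_inv_of_mul_eq_one_left h3
  rw [this]
  exact inv_eq_of_mul_eq_one_left hy

theorem lk_cube : (lG * oG .k) ^ 3 = 1 := by
  have h := cox24 Fi24.Gen.l Fi24.Gen.k
  have e : coxLabel Fi24.edges Fi24.Gen.l Fi24.Gen.k = 3 := by decide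
  rw [e] at h
  exact h

theorem ka_cube : (oG .k * oG .a) ^ 3 = 1 := by
  have h := cox24 Fi24.Gen.k Fi24.Gen.a
  have e : coxLabel Fi24.edges Fi24.Gen.k Fi24.Gen.a = 3 := by decide
  rw [e] at h
  exact h

theorem la_sq : (lG * oG .a) ^ 2 = 1 := by
  have h := cox24 Fi24.Gen.l Fi24.Gen.a
  have e : coxLabel Fi24.edges Fi24.Gen.l Fi24.Gen.a = 2 := by decide
  rw [e] at h
  exact h

theorem cent_lG : Subgroup.centralizer ({lG} : Set G24) = H24 := by
  by_contra hne
  have htop := rank3_24.maxi _ H24_le_cent hne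
  have hk : oG .k ∈ Subgroup.centralizer ({lG} : Set G24) := by rw [htop]; trivial
  rw [Subgroup.mem_centralizer_iff] at hk
  have hc : lG * oG .k = oG .k * lG := hk lG rfl
  have := cube_of_comm lG_sq (oG_sq .k) lk_cube hc
  apply k_not_mem hidx
  rw [← this]
  exact oG_mem_H24 (by decide)

/-- `x y x = y x y` for `(x y)^3 = 1` and involutions. -/
theorem braid {Γ : Type*} [Group Γ] {x y : Γ} (hx : x * x = 1) (hy : y * y = 1)
    (h3 : (x * y) ^ 3 = 1) : x * y * x = y * x * y := by
  have e : x * y * x * y * x * y = 1 := by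
    rw [← h3]; simp only [pow_succ, pow_zero, one_mul, mul_assoc]
  have hxi : x⁻¹ = x := inv_eq_of_mul_eq_one_left hx
  have hyi : y⁻¹ = y := inv_eq_of_mul_eq_one_left hy
  calc x * y * x = x * y * x * (y * x * y) * (y * x * y)⁻¹ := by group
    _ = (x * y * x * y * x * y) * (y * x * y)⁻¹ := by group
    _ = (y * x * y)⁻¹ := by rw [e, one_mul]
    _ = y⁻¹ * x⁻¹ * y⁻¹ := by group
    _ = y * x * y := by rw [hxi, hyi]

theorem u24_conj : u24 * lG * u24⁻¹ = oG .a := by
  have hlG : lG = oG Fi24.Gen.l := rfl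
  have hl : oG Fi24.Gen.l * oG Fi24.Gen.l = 1 := oG_sq _
  have hk := oG_sq Fi24.Gen.k
  have ha := oG_sq Fi24.Gen.a
  have lk3 : (oG Fi24.Gen.l * oG Fi24.Gen.k) ^ 3 = 1 := lk_cube
  have b1 : oG .l * oG .k * oG .l = oG .k * oG .l * oG .k := braid hl hk lk3
  have b2 : oG .k * oG .a * oG .k = oG .a * oG .k * oG .a := braid hk ha ka_cube
  have hli : (oG Fi24.Gen.l)⁻¹ = oG .l := oG_inv _
  have hki : (oG Fi24.Gen.k)⁻¹ = oG .k := oG_inv _
  have hai : (oG Fi24.Gen.a)⁻¹ = oG .a := oG_inv _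
  rw [hlG]
  have e1 : u24 * oG .l * u24⁻¹ =
      oG .k * oG .a * (oG .l * oG .k * oG .l * oG .k * oG .l) * oG .a * oG .k := by
    unfold u24
    rw [mul_inv_rev, mul_inv_rev, mul_inv_rev, hki, hai, hli]
    group
  have e2 : oG .l * oG .k * oG .l * oG .k * oG .l = oG .k := by
    calc oG .l * oG .k * oG .l * oG .k * oG .l = (oG .l * oG .k * oG .l) * oG .k * oG .l := by group
      _ = (oG .k * oG .l * oG .k) * oG .k * oG .l := by rw [b1]
      _ = oG .k * oG .l * (oG .k * oG .k) * oG .l := by group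
      _ = oG .k * (oG .l * oG .l) := by rw [hk]; group
      _ = oG .k := by rw [hl, mul_one]
  rw [e1, e2]
  calc oG .k * oG .a * oG .k * oG .a * oG .k = (oG .k * oG .a * oG .k) * oG .a * oG .k := by group
    _ = (oG .a * oG .k * oG .a) * oG .a * oG .k := by rw [b2]
    _ = oG .a * oG .k * (oG .a * oG .a) * oG .k := by group
    _ = oG .a * (oG .k * oG .k) := by rw [ha]; group
    _ = oG .a := by rw [hk, mul_one]

end Cfsg.Agent.Helper17.Fi24He
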