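import Cfsg.Agent.Helper17.Fi24He.WP
import Cfsg.Agent.Helper17.Fi24He.HeData
import Cfsg.Agent.Helper17.TCGeneric2
import Cfsg.Prelude.Def_Spor_He

/-! A homomorphism from the presented Held group to the presented `Fi₂₄`. -/

set_option autoImplicit false
set_option linter.all false
set_option maxRecDepth 100000

noncomputable section

namespace Cfsg.Agent.Helper17.Fi24He

open Cfsg.Spor Cfsg.Agent.Helper17.Fi24Sp Cfsg.Agent.Helper19.TCS
open Cfsg.Agent.Helper19

def hidxG : He.Gen → ℕ
  | .a => 0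
  | .b => 1
  | .c => 2
  | .d => 3
  | .e => 4
  | .f => 5
  | .g => 6

def hgen : ℕ → He.Gen
  | 0 => .a
  | 1 => .b
  | 2 => .c
  | 3 => .d
  | 4 => .e
  | 5 => .f
  | _ => .g

theorem hgen_hidxG (x : He.Gen) : hgen (hidxG x) = x := by cases x <;> rfl

theorem hidxG_lt (x : He.Gen) : hidxG x < 7 := by cases x <;> decide

def heF (x : He.Gen) : G24 := prodw Fi24Ord.gG (hW (hidxG x))

/-- the labels of the diagram of `He` on the letters -/
def labH (k l : ℕ) : ℕ := coxLabel He.edges (hgen k) (hgen l)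

theorem labH_idx (x y : He.Gen) : labH (hidxG x) (hidxG y) = coxLabel He.edges x y := by
  rw [labH, hgen_hidxG, hgen_hidxG]

def chkCoxH (k : ℕ) : Bool :=
  TCG.allD 7 fun l => chkW (List.replicate (labH k l) (hW l ++ hW k)).flatten

theorem chkCoxH0 : chkCoxH 0 = true := by decide +kernel
theorem chkCoxH1 : chkCoxH 1 = true := by decide +kernel
theorem chkCoxH2 : chkCoxH 2 = true := by decide +kernel
theorem chkCoxH3 : chkCoxH 3 = true := by decide +kernel
theorem chkCoxH4 : chkCoxH 4 = true := by decide +kernel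
theorem chkCoxH5 : chkCoxH 5 = true := by decide +kernel
theorem chkCoxH6 : chkCoxH 6 = true := by decide +kernel

theorem chkCoxH_ok {k : ℕ} (hk : k < 7) : chkCoxH k = true := by
  interval_cases k
  · exact chkCoxH0
  · exact chkCoxH1
  · exact chkCoxH2
  · exact chkCoxH3
  · exact chkCoxH4
  · exact chkCoxH5
  · exact chkCoxH6

theorem he_cox (x y : He.Gen) : (heF x * heF y) ^ coxLabel He.edges x y = 1 := by
  have h := chkCoxH_ok (hidxG_lt x)
  rw [chkCoxH, TCG.allD_iff] at h
  have h2 := prodw_eq_one (h (hidxG y) (hidxG_lt y))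
  rw [Fi24Ord.prodw_replicate, prodw_append, labH_idx] at h2
  exact h2

theorem HE0 : FreeGroup.lift heF (He.e * ((He.f * He.g) ^ 2)⁻¹) = 1 := by
  have h : prodw Fi24Ord.gG (List.replicate 2 (hW 6 ++ hW 5)).flatten = prodw Fi24Ord.gG (hW 4) :=
    prodw_eq_of_chk (by decide +kernel)
  rw [Fi24Ord.prodw_replicate, prodw_append] at h
  simp only [map_mul, map_inv, map_pow, FreeGroup.lift_apply_of, heF, hidxG]
  rw [h, mul_inv_cancel]

theorem HE1 : FreeGroup.lift heF (He.e * ((He.a * He.b * He.c) ^ 3)⁻¹) = 1 := by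
  have h : prodw Fi24Ord.gG (List.replicate 3 (hW 2 ++ (hW 1 ++ hW 0))).flatten =
      prodw Fi24Ord.gG (hW 4) :=
    prodw_eq_of_chk (by decide +kernel)
  rw [Fi24Ord.prodw_replicate, prodw_append, prodw_append] at h
  simp only [map_mul, map_inv, map_pow, FreeGroup.lift_apply_of, heF, hidxG]
  rw [h, mul_inv_cancel]

theorem HE2 : FreeGroup.lift heF (He.a * ((He.c * He.d) ^ 5)⁻¹) = 1 := by
  have h : prodw Fi24Ord.gG (List.replicate 5 (hW 3 ++ hW 2)).flatten = prodw Fi24Ord.gG (hW 0) :=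
    prodw_eq_of_chk (by decide +kernel)
  rw [Fi24Ord.prodw_replicate, prodw_append] at h
  simp only [map_mul, map_inv, map_pow, FreeGroup.lift_apply_of, heF, hidxG]
  rw [h, mul_inv_cancel]

theorem HE3 : FreeGroup.lift heF ((He.c * He.d * He.f * He.g) ^ 4) = 1 := by
  have h : prodw Fi24Ord.gG (List.replicate 4 (hW 6 ++ (hW 5 ++ (hW 3 ++ hW 2)))).flatten = 1 :=
    prodw_eq_one (by decide +kernel)
  rw [Fi24Ord.prodw_replicate, prodw_append, prodw_append, prodw_append] at h
  simp only [map_mul, map_pow, FreeGroup.lift_apply_of, heF, hidxG]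
  exact h

theorem hrelHe : ∀ r ∈ coxRelators He.edges ∪ {r | r ∈ He.extra}, FreeGroup.lift heF r = 1 := by
  intro r hr
  rcases hr with ⟨x, _, y, _, rfl⟩ | hr
  · rw [map_pow, map_mul, FreeGroup.lift_apply_of, FreeGroup.lift_apply_of]
    exact he_cox x y
  · have hr' : r ∈ He.extra := hr
    simp only [He.extra, List.mem_cons, List.mem_nil_iff, or_false] at hr'
    rcases hr' with rfl | rfl | rfl | rfl
    · exact HE0
    · exact HE1
    · exact HE2
    · exact HE3

/-- the homomorphism `He → Fi₂₄` -/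
def psiHe : Cfsg.Spor.He →* G24 := PresentedGroup.toGroup hrelHe

theorem psiHe_of (x : He.Gen) : psiHe (PresentedGroup.of x) = heF x :=
  PresentedGroup.toGroup.of hrelHe

/-- the images of the first two generators do not commute -/
theorem heF_ab : heF .a * heF .b ≠ heF .b * heF .a := by
  intro h
  have e1 : heF .a * heF .b = prodw Fi24Ord.gG (hW 1 ++ hW 0) := by
    rw [prodw_append]; rfl
  have e2 : heF .b * heF .a = prodw Fi24Ord.gG (hW 0 ++ hW 1) := by
    rw [prodw_append]; rfl
  rw [e1, e2] at h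
  have h1 : Fi24Ord.phi (prodw Fi24Ord.gG (hW 1 ++ hW 0)) 1 =
      Fi24Ord.phi (prodw Fi24Ord.gG (hW 0 ++ hW 1)) 1 := by rw [h]
  rw [Fi24Ord.phi_prodw_apply _ (by decide +kernel) (by norm_num),
    Fi24Ord.phi_prodw_apply _ (by decide +kernel) (by norm_num)] at h1
  revert h1
  decide +kernel

end Cfsg.Agent.Helper17.Fi24He
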