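import Cfsg.Agent.Helper17.Fi24He.Cent
import Cfsg.Agent.Helper17.Fi24He.HeHom
import Cfsg.Agent.Helper14.S0473TT3
import Cfsg.Agent.Helper14.S0473CARD
import Cfsg.Agent.Helper14.S0473CONJA
import Cfsg.Agent.Helper14.S0473CONJB
import Cfsg.Agent.Helper19.HeOrd.Simple
import Cfsg.Agent.Helper17.Fi23Ord.Simple

/-! The presented `Fi₂₄` as a 3-transposition group: assembly of the pieces. -/

set_option autoImplicit false
set_option linter.all false

noncomputable section

namespace Cfsg.Agent.Helper17.Fi24He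

open Cfsg.Spor Cfsg.Agent.Helper17.Fi24Sp

/-- the class of transpositions of the presented `Fi₂₄` -/
def Dcl : Set G24 := conjugatesOf lG

theorem lG_mem_Dcl : lG ∈ Dcl := mem_conjugatesOf_self

theorem orderOf_Dcl : ∀ d ∈ Dcl, orderOf d = 2 := by
  intro d hd
  have hd' : IsConj lG d := hd
  rw [isConj_iff] at hd'
  obtain ⟨c, hc⟩ := hd'
  rw [← hc, ← MulAut.conj_apply, MulEquiv.orderOf_eq]
  exact orderOf_lG

theorem tt_Dcl : ∀ d ∈ Dcl, ∀ e ∈ Dcl, (d * e) ^ 2 = 1 ∨ (d * e) ^ 3 = 1 := by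
  refine three_transposition_of_cover H24 lG (oG .k) (oG .a) u24 lG_sq (oG_sq _) cent_lG ?_
    lk_cube u24_conj la_sq
  intro g
  rcases cover24 g with h | h | h
  · exact Or.inl h
  · exact Or.inr (Or.inl h)
  · exact Or.inr (Or.inr h)

theorem mem_Dcl_of_adj {x y : Fi24.Gen} (h : coxLabel Fi24.edges x y = 3) (hx : oG x ∈ Dcl) :
    oG y ∈ Dcl := by
  have hx' : IsConj lG (oG x) := hx
  change IsConj lG (oG y)
  refine hx'.trans ?_
  rw [isConj_iff]
  exact ⟨oG x * oG y, (conj_adj h).symm⟩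

theorem oG_mem_Dcl (x : Fi24.Gen) : oG x ∈ Dcl := by
  have hl : oG .l ∈ Dcl := lG_mem_Dcl
  have hk := mem_Dcl_of_adj (x := .l) (y := .k) (by decide) hl
  have ha := mem_Dcl_of_adj (x := .k) (y := .a) (by decide) hk
  have hb := mem_Dcl_of_adj (x := .a) (y := .b) (by decide) ha
  have hc := mem_Dcl_of_adj (x := .b) (y := .c) (by decide) hb
  have hd := mem_Dcl_of_adj (x := .c) (y := .d) (by decide) hc
  have he := mem_Dcl_of_adj (x := .d) (y := .e) (by decide) hd
  have hf := mem_Dcl_of_adj (x := .e) (y := .f) (by decide) he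
  have hg := mem_Dcl_of_adj (x := .f) (y := .g) (by decide) hf
  have hj := mem_Dcl_of_adj (x := .g) (y := .j) (by decide) hg
  have hh := mem_Dcl_of_adj (x := .d) (y := .h) (by decide) hd
  have hi := mem_Dcl_of_adj (x := .h) (y := .i) (by decide) hh
  cases x <;> assumption

theorem closure_Dcl : Subgroup.closure Dcl = ⊤ :=
  top_of_all fun x => Subgroup.subset_closure (oG_mem_Dcl x)

theorem class_Dcl : Cfsg.IsThreeTranspositionClass Dcl :=
  ⟨⟨orderOf_Dcl, tt_Dcl⟩, ⟨lG, lG_mem_Dcl, rfl⟩, closure_Dcl⟩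

theorem card_Dcl : Nat.card Dcl = 306936 := by
  haveI := finG24 hidx
  rw [Dcl, card_conjugatesOf_eq_index, cent_lG, hidx]

theorem card_G24' : Nat.card G24 = 2 * 1255205709190661721292800 := by
  rw [card_G24 hidx]

theorem card_cent_Dcl {d : G24} (hd : d ∈ Dcl) :
    Nat.card (Subgroup.centralizer ({d} : Set G24)) = 2 * 4089470473293004800 := by
  rw [card_centralizer_of_mem_conjugatesOf hd, cent_lG, card_H24 hidx]

theorem fi23_range : IsSimpleGroup psi23.range ∧ Nat.card psi23.range = 4089470473293004800 :=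
  simple_card_range psi23 (psi23_injective hidx) _ Fi23Ord.isSimple Fi23Ord.card_G

theorem fi23_in_cent {d : G24} (hd : d ∈ Dcl) :
    ∃ K : Subgroup G24, K ≤ Subgroup.centralizer ({d} : Set G24) ∧ Cfsg.IsFi23 K :=
  exists_simple_sub_of_mem_conjugatesOf _ hd
    ⟨psi23.range, range_le_cent, fi23_range.1, fi23_range.2⟩

theorem fi23_nonabelian : ¬ ∀ a b : Fi23TC.G, a * b = b * a := by
  intro h
  have hc : Subgroup.center Fi23TC.G = ⊤ := by
    rw [eq_top_iff]
    intro x _
    rw [Subgroup.mem_center_iff]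
    intro y
    exact h y x
  rw [center_Fi23] at hc
  have h1 : Nat.card (⊥ : Subgroup Fi23TC.G) = Nat.card (⊤ : Subgroup Fi23TC.G) := by rw [hc]
  rw [Subgroup.card_bot, Subgroup.card_top, Fi23Ord.card_G] at h1
  norm_num at h1

theorem fi23_in_D24 : ∃ K : Subgroup D24, Cfsg.IsFi23 K := by
  haveI := Fi23Ord.isSimple
  have hle : psi23.range ≤ D24 := range_le_commutator_of_simple fi23_nonabelian psi23
  exact ⟨psi23.range.subgroupOf D24, simple_card_subgroupOf hle _ fi23_range.1 fi23_range.2⟩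

theorem he_nonabelian : ¬ ∀ a b : Cfsg.Spor.He, a * b = b * a := by
  intro h
  apply heF_ab
  rw [← psiHe_of, ← psiHe_of, ← map_mul, ← map_mul, h]

theorem psiHe_injective : Function.Injective psiHe := by
  haveI := Cfsg.Agent.Helper19.HeOrd.isSimple
  by_contra hni
  apply heF_ab
  have triv : ∀ x, psiHe x = 1 := by
    intro x
    by_contra hx
    exact hni (injective_of_simple psiHe x hx)
  rw [← psiHe_of, ← psiHe_of, triv, triv]

theorem he_range : IsSimpleGroup psiHe.range ∧ Nat.card psiHe.range = 4030387200 :=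
  simple_card_range psiHe psiHe_injective _ Cfsg.Agent.Helper19.HeOrd.isSimple
    Cfsg.Agent.Helper19.HeOrd.card_G

theorem he_in_D24 : ∃ K : Subgroup D24, Cfsg.IsHe K := by
  haveI := Cfsg.Agent.Helper19.HeOrd.isSimple
  have hle : psiHe.range ≤ D24 := range_le_commutator_of_simple he_nonabelian psiHe
  exact ⟨psiHe.range.subgroupOf D24, simple_card_subgroupOf hle _ he_range.1 he_range.2⟩

theorem fi24'_D24 : Cfsg.IsFi24' D24 :=
  ⟨simple_D24 hidx hcomm rank3_24, card_D24 hidx hcomm⟩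

theorem main : ∃ (G : Type) (_ : Group G) (_ : Finite G), Nat.card G = 2 * 1255205709190661721292800 ∧
    ∃ D : Set G, Cfsg.IsThreeTranspositionClass D ∧ Nat.card D = 306936 ∧
      (∀ d ∈ D, Nat.card (Subgroup.centralizer ({d} : Set G)) = 2 * 4089470473293004800 ∧
        ∃ K : Subgroup G, K ≤ Subgroup.centralizer ({d} : Set G) ∧ Cfsg.IsFi23 K) ∧
      ∃ H : Subgroup G, H.index = 2 ∧ Cfsg.IsFi24' H ∧ (∃ K : Subgroup H, Cfsg.IsFi23 K) ∧
        (∃ K : Subgroup H, Cfsg.IsHe K) :=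
  ⟨G24, inferInstance, finG24 hidx, card_G24', Dcl, class_Dcl, card_Dcl,
    fun d hd => ⟨card_cent_Dcl hd, fi23_in_cent hd⟩,
    D24, hcomm, fi24'_D24, fi23_in_D24, he_in_D24⟩

end Cfsg.Agent.Helper17.Fi24He
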