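import Cfsg.Agent.Helper17.Fi24He.Cent

/-! The word problem in the presented `Fi₂₄`: an element fixing the 12 points of the generators in
the action on the 306936 transpositions is trivial. -/

set_option autoImplicit false
set_option linter.all false
set_option maxRecDepth 100000

noncomputable section

namespace Cfsg.Agent.Helper17.Fi24He

open Cfsg.Spor Cfsg.Agent.Helper17.Fi24Sp Cfsg.Agent.Helper19.TCS
open Cfsg.Agent.Helper19

/-- the normal subgroups of `Fi₂₄` inside `H24` are trivial -/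
theorem core_H24 {N : Subgroup G24} [hN : N.Normal] (hle : N ≤ H24) : N = ⊥ := by
  by_contra hne
  rcases H24_normal_cases (psi23_injective hidx) hle (fun h _ n hn => hN.conj_mem n hn h) hne
    with h | h
  · have ht : N = ⊤ := top_of_l_mem h
    apply H24_ne_top hidx
    rw [eq_top_iff, ← ht]
    exact hle
  · exact not_le_of_range_le hidx h hle

theorem center_G24 : Subgroup.center G24 = ⊥ := by
  apply core_H24
  rw [← cent_lG]
  exact Subgroup.center_le_centralizer _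

/-- the conjugating words: `gG j = c_j * gG 0 * c_j⁻¹` -/
def cw : ℕ → List ℕ
  | 0 => []
  | 1 => [1, 0]
  | 2 => [1, 0, 2, 1]
  | 3 => [1, 0, 2, 1, 3, 2]
  | 4 => [1, 0, 2, 1, 3, 2, 4, 3]
  | 5 => [1, 0, 2, 1, 3, 2, 4, 3, 5, 4]
  | 6 => [1, 0, 2, 1, 3, 2, 4, 3, 5, 4, 6, 5]
  | 7 => [1, 0, 2, 1, 3, 2, 4, 3, 5, 4, 6, 5, 7, 6]
  | 8 => [1, 0, 2, 1, 3, 2, 4, 3, 5, 4, 6, 5, 7, 6, 8, 7]
  | 9 => [1, 0, 2, 1, 3, 2, 4, 3, 5, 4, 6, 5, 7, 6, 8, 7, 9, 8]
  | 10 => [1, 0, 2, 1, 3, 2, 4, 3, 5, 4, 10, 5]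
  | _ => [1, 0, 2, 1, 3, 2, 4, 3, 5, 4, 10, 5, 11, 10]

theorem conj_step {x y : ℕ} {c : List ℕ}
    (hadj : coxLabel Fi24.edges (Fi24Ord.gen x) (Fi24Ord.gen y) = 3)
    (hx : Fi24Ord.gG x = prodw Fi24Ord.gG c * Fi24Ord.gG 0 * (prodw Fi24Ord.gG c)⁻¹) :
    Fi24Ord.gG y = prodw Fi24Ord.gG (c ++ [y, x]) * Fi24Ord.gG 0 *
      (prodw Fi24Ord.gG (c ++ [y, x]))⁻¹ := by
  have h := conj_adj hadj
  have e : prodw Fi24Ord.gG (c ++ [y, x]) = (Fi24Ord.gG x * Fi24Ord.gG y) * prodw Fi24Ord.gG c := by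
    rw [prodw_append]
    simp [prodw]
  rw [e]
  have key : Fi24Ord.gG x * Fi24Ord.gG y * prodw Fi24Ord.gG c * Fi24Ord.gG 0 *
      (Fi24Ord.gG x * Fi24Ord.gG y * prodw Fi24Ord.gG c)⁻¹ =
      (Fi24Ord.gG x * Fi24Ord.gG y) * (prodw Fi24Ord.gG c * Fi24Ord.gG 0 * (prodw Fi24Ord.gG c)⁻¹) *
        (Fi24Ord.gG x * Fi24Ord.gG y)⁻¹ := by group
  rw [key, ← hx]
  exact h

theorem gG_conj : ∀ j, j < 12 → Fi24Ord.gG j = prodw Fi24Ord.gG (cw j) * Fi24Ord.gG 0 *
    (prodw Fi24Ord.gG (cw j))⁻¹ := by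
  have h0 : Fi24Ord.gG 0 = prodw Fi24Ord.gG (cw 0) * Fi24Ord.gG 0 * (prodw Fi24Ord.gG (cw 0))⁻¹ := by
    simp [cw, prodw]
  have h1 := conj_step (x := 0) (y := 1) (by decide) h0
  have h2 := conj_step (x := 1) (y := 2) (by decide) h1
  have h3 := conj_step (x := 2) (y := 3) (by decide) h2
  have h4 := conj_step (x := 3) (y := 4) (by decide) h3
  have h5 := conj_step (x := 4) (y := 5) (by decide) h4
  have h6 := conj_step (x := 5) (y := 6) (by decide) h5
  have h7 := conj_step (x := 6) (y := 7) (by decide) h6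
  have h8 := conj_step (x := 7) (y := 8) (by decide) h7
  have h9 := conj_step (x := 8) (y := 9) (by decide) h8
  have h10 := conj_step (x := 5) (y := 10) (by decide) h5
  have h11 := conj_step (x := 10) (y := 11) (by decide) h10
  intro j hj
  interval_cases j
  · exact h0
  · exact h1
  · exact h2
  · exact h3
  · exact h4
  · exact h5
  · exact h6
  · exact h7
  · exact h8
  · exact h9
  · exact h10
  · exact h11

theorem cw_lt : ∀ j, j < 12 → ∀ l ∈ cw j, l < 12 := by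
  intro j hj
  interval_cases j <;> decide

/-- the point of the generator `j` -/
def pt (j : ℕ) : ℕ := evalw 524288 Fi24P.ent (cw j) 0

theorem phi_cw {j : ℕ} (hj : j < 12) : Fi24Ord.phi (prodw Fi24Ord.gG (cw j)) 0 = pt j :=
  Fi24Ord.phi_prodw_apply (cw j) (cw_lt j hj) (by norm_num)

theorem pt_lt {j : ℕ} (hj : j < 12) : pt j < 306936 := by
  rw [← phi_cw hj]
  exact Fi24Ord.phi_lt _ (by norm_num)

theorem comm_of_fix {g : G24} {j : ℕ} (hj : j < 12) (h : Fi24Ord.phi g (pt j) = pt j) :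
    g * Fi24Ord.gG j = Fi24Ord.gG j * g := by
  set c := prodw Fi24Ord.gG (cw j) with hc
  have h1 : Fi24Ord.phi (c⁻¹ * g * c) 0 = 0 := by
    rw [map_mul, map_mul, Equiv.Perm.mul_apply, Equiv.Perm.mul_apply, phi_cw hj, h, map_inv,
      Equiv.Perm.inv_eq_iff_eq, phi_cw hj]
  have h2 : c⁻¹ * g * c ∈ H24 := Fi24Ord.stab0.mp h1
  rw [← cent_lG, Subgroup.mem_centralizer_iff] at h2
  have h3 : lG * (c⁻¹ * g * c) = c⁻¹ * g * c * lG := h2 lG rfl
  have hl : lG = Fi24Ord.gG 0 := rfl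
  rw [gG_conj j hj, ← hc, ← hl]
  calc g * (c * lG * c⁻¹) = c * (c⁻¹ * g * c * lG) * c⁻¹ := by group
    _ = c * (lG * (c⁻¹ * g * c)) * c⁻¹ := by rw [h3]
    _ = c * lG * c⁻¹ * g := by group

theorem eq_one_of_fix12 {g : G24} (h : ∀ j, j < 12 → Fi24Ord.phi g (pt j) = pt j) : g = 1 := by
  have hc : g ∈ Subgroup.center G24 := by
    rw [Subgroup.mem_center_iff]
    intro x
    have hx : x ∈ Subgroup.closure {y : G24 | ∃ l, l < 12 ∧ y = Fi24Ord.gG l} := by
      rw [Fi24Ord.hgen]; trivial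
    induction hx using Subgroup.closure_induction with
    | mem y hy =>
      obtain ⟨l, hl, rfl⟩ := hy
      exact (comm_of_fix hl (h l hl)).symm
    | one => simp
    | mul a b _ _ ha hb => rw [mul_assoc, hb, ← mul_assoc, ha, mul_assoc]
    | inv a _ ha =>
      calc a⁻¹ * g = a⁻¹ * (g * a) * a⁻¹ := by group
        _ = a⁻¹ * (a * g) * a⁻¹ := by rw [ha]
        _ = g * a⁻¹ := by group
  rw [center_G24, Subgroup.mem_bot] at hc
  exact hc

/-- the check of a word identity -/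
def chkW (w : List ℕ) : Bool :=
  (w.all fun l => decide (l < 12)) &&
    (List.range 12).all fun j => Nat.beq (evalw 524288 Fi24P.ent w (pt j)) (pt j)

theorem prodw_eq_one {w : List ℕ} (h : chkW w = true) : prodw Fi24Ord.gG w = (1 : G24) := by
  rw [chkW, Bool.and_eq_true, List.all_eq_true, List.all_eq_true] at h
  have hw : ∀ l ∈ w, l < 12 := fun l hl => by simpa using h.1 l hl
  apply eq_one_of_fix12
  intro j hj
  rw [Fi24Ord.phi_prodw_apply w hw (pt_lt hj)]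
  exact Nat.eq_of_beq_eq_true (h.2 j (List.mem_range.mpr hj))

theorem gG_inv' (l : ℕ) : (Fi24Ord.gG l)⁻¹ = Fi24Ord.gG l := Fi24Ord.gG_inv l

theorem prodw_reverse (u : List ℕ) :
    prodw Fi24Ord.gG u.reverse = (prodw Fi24Ord.gG u : G24)⁻¹ :=
  Fi24Ord.prodw_reverse_inv Fi24Ord.gG gG_inv' u

theorem prodw_eq_of_chk {u v : List ℕ} (h : chkW (u ++ v.reverse) = true) :
    prodw Fi24Ord.gG u = (prodw Fi24Ord.gG v : G24) := by
  have h1 := prodw_eq_one h
  rw [prodw_append, prodw_reverse] at h1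
  exact (inv_mul_eq_one.mp h1).symm

theorem test1 : prodw Fi24Ord.gG [0, 1, 0, 1, 0, 1] = (1 : G24) := prodw_eq_one (by decide +kernel)

end Cfsg.Agent.Helper17.Fi24He
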